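import Mathlib.GroupTheory.SpecificGroups.Alternating
import Mathlib.GroupTheory.Perm.Cycle.Type
import Mathlib.GroupTheory.PGroup
import Mathlib.Algebra.Group.Action.Pointwise.Finset
import Mathlib.GroupTheory.Commutator.Basic
import Mathlib.Tactic
import Cfsg.Agent.FastGrp
import Cfsg.Agent.Prune
set_option linter.all false
prune_inst 0x7f00000000000000000000000000000000000000000000000000000000000000000000000000000000000000000000000000000000000000000000000000000000000000000000000000000000000000003fffffffffffffffffffffffffffbeffbdffffffff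
open scoped Cfsg.Agent.FastGrp

/-!
# Permutations commuting with an involution

`bl z i = {i, z i}` (blocks), three-cycles of points and of blocks, the commutator trick.
-/

set_option autoImplicit false
set_option linter.unusedSectionVars false
set_option linter.unusedVariables false

namespace Cfsg.Agent.H282.LT

open Equiv Equiv.Perm
open scoped commutatorElement Pointwise

/-! ### The commutator of a 3-cycle and an involution -/

section Act

variable {H X : Type*} [Group H] [MulAction H X]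

theorem no_three {w : H} {a : X} (h3 : w • w • w • a = a) (hab : w • a ≠ a) {k : ℕ} (hk : w ^ 2 ^ k = 1) : False := by
  apply hab
  have h1 : w ^ 3 ∈ MulAction.stabilizer H a := by
    rw [MulAction.mem_stabilizer_iff, pow_succ, pow_two, mul_smul, mul_smul]; exact h3
  have h2 : w ^ 2 ^ k ∈ MulAction.stabilizer H a := by rw [hk]; exact one_mem _
  have h3 : Nat.Coprime 3 (2 ^ k) := Nat.Coprime.pow_right k (by norm_num)
  have h4 := Nat.gcd_eq_gcd_ab 3 (2 ^ k)
  rw [h3] at h4
  have h5 : w ∈ MulAction.stabilizer H a := by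
    have e : w = (w ^ 3) ^ (Nat.gcdA 3 (2 ^ k)) * (w ^ 2 ^ k) ^ (Nat.gcdB 3 (2 ^ k)) := by
      rw [← zpow_natCast w 3, ← zpow_natCast w (2 ^ k), ← zpow_mul, ← zpow_mul, ← zpow_add, ← h4]
      simp
    rw [e]
    exact mul_mem (zpow_mem h1 _) (zpow_mem h2 _)
  exact h5

theorem comm_fix {u c : H} {I J E : X} (h1 : c • I = J) (h2 : c • J = E) (h3 : c • E = I) (u1 : u • I = J)
    (u2 : u • J = I) (u3 : u • E = E) (hne : I ≠ E) {k : ℕ} (hk : ⁅u, c⁆ ^ 2 ^ k = 1) : False := by
  have c1 : c⁻¹ • J = I := by rw [← h1, inv_smul_smul]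
  have c2 : c⁻¹ • E = J := by rw [← h2, inv_smul_smul]
  have c3 : c⁻¹ • I = E := by rw [← h3, inv_smul_smul]
  have v1 : u⁻¹ • J = I := by rw [← u1, inv_smul_smul]
  have v2 : u⁻¹ • I = J := by rw [← u2, inv_smul_smul]
  have v3 : u⁻¹ • E = E := by nth_rw 1 [← u3]; rw [inv_smul_smul]
  have w1 : ⁅u, c⁆ • E = I := by
    rw [commutatorElement_def, mul_smul, mul_smul, mul_smul, c2, v1, h1, u2]
  have w2 : ⁅u, c⁆ • I = J := by
    rw [commutatorElement_def, mul_smul, mul_smul, mul_smul, c3, v3, h3, u1]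
  have w3 : ⁅u, c⁆ • J = E := by
    rw [commutatorElement_def, mul_smul, mul_smul, mul_smul, c1, v2, h2, u3]
  exact no_three (a := E) (by rw [w1, w2, w3]) (by rw [w1]; exact hne) hk

theorem comm_free {u c : H} {I K E I' K' E' : X} (h1 : c • I = K) (h2 : c • K = E) (h3 : c • E = I)
    (u1 : u • I = I') (u2 : u • K = K') (u3 : u • E = E') (v1 : u • I' = I) (v2 : u • K' = K) (v3 : u • E' = E)
    (c1 : c • I' = I') (c2 : c • K' = K') (c3 : c • E' = E') (hne : E ≠ I) {k : ℕ} (hk : ⁅u, c⁆ ^ 2 ^ k = 1) :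
    False := by
  have d1 : c⁻¹ • K = I := by rw [← h1, inv_smul_smul]
  have d2 : c⁻¹ • E = K := by rw [← h2, inv_smul_smul]
  have d3 : c⁻¹ • I = E := by rw [← h3, inv_smul_smul]
  have x1 : u⁻¹ • I = I' := by rw [← v1, inv_smul_smul]
  have x2 : u⁻¹ • K = K' := by rw [← v2, inv_smul_smul]
  have x3 : u⁻¹ • E = E' := by rw [← v3, inv_smul_smul]
  have w1 : ⁅u, c⁆ • I = E := by
    rw [commutatorElement_def, mul_smul, mul_smul, mul_smul, d3, x3, c3, v3]
  have w2 : ⁅u, c⁆ • E = K := by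
    rw [commutatorElement_def, mul_smul, mul_smul, mul_smul, d2, x2, c2, v2]
  have w3 : ⁅u, c⁆ • K = I := by
    rw [commutatorElement_def, mul_smul, mul_smul, mul_smul, d1, x1, c1, v1]
  exact no_three (a := I) (by rw [w1, w2, w3]) (by rw [w1]; exact hne) hk

end Act

/-! ### Three-cycles -/

variable {α : Type*} [DecidableEq α]

/-- the 3-cycle `i → j → e → i` -/
def cyc (i j e : α) : Perm α := swap i j * swap j e

section

variable {i j e : α} (hij : i ≠ j) (hie : i ≠ e) (hje : j ≠ e)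
include hij hie hje

theorem cyc_1 : cyc i j e i = j := by
  unfold cyc
  rw [Perm.mul_apply, swap_apply_of_ne_of_ne hij hie, swap_apply_left]

theorem cyc_2 : cyc i j e j = e := by
  unfold cyc
  rw [Perm.mul_apply, swap_apply_left, swap_apply_of_ne_of_ne hie.symm hje.symm]

theorem cyc_3 : cyc i j e e = i := by
  unfold cyc
  rw [Perm.mul_apply, swap_apply_right, swap_apply_right]

end

theorem cyc_of_ne {i j e l : α} (h1 : l ≠ i) (h2 : l ≠ j) (h3 : l ≠ e) : cyc i j e l = l := by
  unfold cyc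
  rw [Perm.mul_apply, swap_apply_of_ne_of_ne h2 h3, swap_apply_of_ne_of_ne h1 h2]

theorem conj_cyc (z : Perm α) (i j e : α) : z * cyc i j e * z⁻¹ = cyc (z i) (z j) (z e) := by
  unfold cyc
  rw [Equiv.swap_apply_apply, Equiv.swap_apply_apply]; group

/-! ### Blocks -/

/-- the block `{i, z i}` -/
def bl (z : Perm α) (i : α) : Finset α := {i, z i}

theorem mem_bl {z : Perm α} {i j : α} : j ∈ bl z i ↔ j = i ∨ j = z i := by
  unfold bl; simp

theorem smul_bl {z g : Perm α} (h : g * z = z * g) (i : α) : g • bl z i = bl z (g i) := by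
  have e : g (z i) = z (g i) := congrArg (fun f : Perm α => f i) h
  unfold bl
  rw [Finset.smul_finset_insert, Finset.smul_finset_singleton, Perm.smul_def, Perm.smul_def, e]

theorem bl_eq {z : Perm α} (hz : z * z = 1) {i j : α} (h : j ∈ bl z i) : bl z j = bl z i := by
  rcases mem_bl.1 h with rfl | rfl
  · rfl
  · have e : z (z i) = i := congrArg (fun f : Perm α => f i) hz
    unfold bl
    rw [e, Finset.pair_comm]

theorem self_mem_bl (z : Perm α) (i : α) : i ∈ bl z i := mem_bl.2 (Or.inl rfl)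

theorem bl_eq_iff {z : Perm α} (hz : z * z = 1) {i j : α} : bl z j = bl z i ↔ j ∈ bl z i :=
  ⟨fun h => by rw [← h]; exact self_mem_bl z j, bl_eq hz⟩

theorem bl_symm {z : Perm α} (hz : z * z = 1) {i j : α} (h : j ∈ bl z i) : i ∈ bl z j := by
  rw [bl_eq hz h]; exact self_mem_bl z i

theorem smul_mem_bl {z g : Perm α} (h : g * z = z * g) {i j : α} (hj : j ∈ bl z i) : g j ∈ bl z (g i) := by
  have e : g (z i) = z (g i) := congrArg (fun f : Perm α => f i) h
  rcases mem_bl.1 hj with rfl | rfl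
  · exact self_mem_bl _ _
  · rw [e]; exact mem_bl.2 (Or.inr rfl)

variable [Fintype α]

theorem sign_cyc {i j e : α} (hij : i ≠ j) (hje : j ≠ e) : sign (cyc i j e) = 1 := by
  unfold cyc
  rw [map_mul, sign_swap hij, sign_swap hje]; rfl

/-- a permutation commuting with the involution `z`, even, inducing a 3-cycle of blocks -/
theorem exists_dcyc {z : Perm α} (hz : z * z = 1) {i j e : α} (hi : z i ≠ i) (hj : z j ≠ j) (he : z e ≠ e)
    (hij : j ∉ bl z i) (hie : e ∉ bl z i) (hje : e ∉ bl z j) :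
    ∃ c : Perm α, c * z = z * c ∧ sign c = 1 ∧ c i = j ∧ c j = e ∧ c e = i ∧
      ∀ l, l ∉ bl z i → l ∉ bl z j → l ∉ bl z e → c l = l := by
  rw [mem_bl, not_or] at hij hie hje
  have hzz : ∀ x, z (z x) = x := fun x => congrArg (fun f : Perm α => f x) hz
  have zne : ∀ {x y : α}, x ≠ y → z x ≠ z y := fun h h' => h (z.injective h')
  have hzi : z⁻¹ = z := inv_eq_of_mul_eq_one_right hz
  have h1 : z * cyc i j e * z⁻¹ = cyc (z i) (z j) (z e) := conj_cyc z i j e
  have h2 : z * cyc (z i) (z j) (z e) * z⁻¹ = cyc i j e := by rw [conj_cyc, hzz, hzz, hzz]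
  have hd : (cyc i j e).Disjoint (cyc (z i) (z j) (z e)) := by
    intro x
    by_cases hx : x = i ∨ x = j ∨ x = e
    · right
      rcases hx with rfl | rfl | rfl
      · exact cyc_of_ne hi.symm (fun h' => hij.2 (by rw [h', hzz])) (fun h' => hie.2 (by rw [h', hzz]))
      · exact cyc_of_ne hij.2 hj.symm (fun h' => hje.2 (by rw [h', hzz]))
      · exact cyc_of_ne hie.2 hje.2 he.symm
    · push Not at hx
      exact Or.inl (cyc_of_ne hx.1 hx.2.1 hx.2.2)
  refine ⟨cyc i j e * cyc (z i) (z j) (z e), ?_, ?_, ?_, ?_, ?_, ?_⟩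
  · have h3 : z * (cyc i j e * cyc (z i) (z j) (z e)) * z⁻¹ = cyc i j e * cyc (z i) (z j) (z e) := by
      calc z * (cyc i j e * cyc (z i) (z j) (z e)) * z⁻¹
          = (z * cyc i j e * z⁻¹) * (z * cyc (z i) (z j) (z e) * z⁻¹) := by group
        _ = cyc (z i) (z j) (z e) * cyc i j e := by rw [h1, h2]
        _ = cyc i j e * cyc (z i) (z j) (z e) := hd.commute.eq.symm
    have h4 := congrArg (· * z) h3
    simp only [inv_mul_cancel_right] at h4
    exact h4.symm
  · rw [map_mul, sign_cyc (Ne.symm hij.1) (Ne.symm hje.1), sign_cyc (zne (Ne.symm hij.1)) (zne (Ne.symm hje.1))]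
    rfl
  · rw [Perm.mul_apply, cyc_of_ne hi.symm (fun h' => hij.2 (by rw [h', hzz])) (fun h' => hie.2 (by rw [h', hzz])),
      cyc_1 (Ne.symm hij.1) (Ne.symm hie.1) (Ne.symm hje.1)]
  · rw [Perm.mul_apply, cyc_of_ne hij.2 hj.symm (fun h' => hje.2 (by rw [h', hzz])),
      cyc_2 (Ne.symm hij.1) (Ne.symm hie.1) (Ne.symm hje.1)]
  · rw [Perm.mul_apply, cyc_of_ne hie.2 hje.2 he.symm, cyc_3 (Ne.symm hij.1) (Ne.symm hie.1) (Ne.symm hje.1)]
  · intro l h5 h6 h7
    rw [mem_bl, not_or] at h5 h6 h7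
    rw [Perm.mul_apply, cyc_of_ne h5.2 h6.2 h7.2, cyc_of_ne h5.1 h6.1 h7.1]

end Cfsg.Agent.H282.LT
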